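import Groth.Agent.LogDiff.K959.Residue
import Mathlib.RingTheory.UniqueFactorizationDomain.Basic
import Mathlib.RingTheory.UniqueFactorizationDomain.Finite
import Mathlib.RingTheory.UniqueFactorizationDomain.Multiplicity
import Mathlib.RingTheory.Localization.NumDen
import Mathlib.Algebra.BigOperators.Associated

/-!
Logarithmic differentials of rational functions on a factorial domain smooth over a field of
characteristic zero.
-/

set_option autoImplicit false
set_option linter.style.haveILetI false
set_option linter.unusedSectionVars false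
universe u v
open KaehlerDifferential TensorProduct

namespace K959.LogMain

open K959.Residue

section Loc

variable {R K : Type u} [CommRing R] [IsDomain R] [Field K] [Algebra R K] [IsFractionRing R K]
  (q : Ideal R) [q.IsPrime]

/-- The localization inside the fraction field. -/
noncomputable abbrev algLoc : Algebra (Localization.AtPrime q) K :=
  (IsLocalization.lift (M := q.primeCompl) (S := Localization.AtPrime q) (g := algebraMap R K)
    (fun y => isUnit_iff_ne_zero.mpr fun h => y.2 (by
      have : (y : R) = 0 := IsFractionRing.injective R K (by rw [h, map_zero])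
      rw [this]; exact q.zero_mem))).toAlgebra

theorem tower_algLoc : letI := algLoc (K := K) q; IsScalarTower R (Localization.AtPrime q) K := by
  letI := algLoc (K := K) q
  exact IsScalarTower.of_algebraMap_eq fun x => (IsLocalization.lift_eq _ x).symm

end Loc

variable {k R K : Type u} [Field k] [CharZero k] [CommRing R] [IsDomain R] [Algebra k R]
  [Algebra.FormallySmooth k R] [Algebra.EssFiniteType k R]
  [Field K] [Algebra R K] [IsFractionRing R K] [Algebra k K] [IsScalarTower k R K]

/-- The nonzero element of the fraction field defined by a nonzero element. -/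
noncomputable def un (K : Type u) [Field K] [Algebra R K] [IsFractionRing R K] (a : R)
    (ha : a ≠ 0) : Kˣ :=
  Units.mk0 (algebraMap R K a) (fun h => ha (IsFractionRing.injective R K (by rw [h, map_zero])))

omit [Algebra.FormallySmooth k R] [Algebra.EssFiniteType k R] [CharZero k] [IsDomain R] in
theorem map_comp_map (D : Type u) [CommRing D] [Algebra R D] [Algebra k D] [IsScalarTower k R D]
    [Algebra D K] [IsScalarTower R D K] [IsScalarTower k D K] (η : Ω[R⁄k]) :
    KaehlerDifferential.map k k R K η =
      KaehlerDifferential.map k k D K (KaehlerDifferential.map k k R D η) := by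
  have : KaehlerDifferential.map k k R K =
      ((KaehlerDifferential.map k k D K).restrictScalars R).comp
        (KaehlerDifferential.map k k R D) := by
    apply Derivation.liftKaehlerDifferential_unique
    ext r
    simp [KaehlerDifferential.map_D, ← IsScalarTower.algebraMap_apply]
  exact LinearMap.congr_fun this η

/-- Being regular along a prime element `q`. -/
def Reg (k : Type u) {R K : Type u} [Field k] [CommRing R] [IsDomain R] [Algebra k R]
    [Field K] [Algebra R K] [IsFractionRing R K] [Algebra k K] [IsScalarTower k R K]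
    (q : Ideal R) [q.IsPrime] (ω : Ω[K⁄k]) : Prop :=
  letI := algLoc (K := K) q
  haveI := tower_algLoc (K := K) q
  haveI : IsScalarTower k (Localization.AtPrime q) K := IsScalarTower.of_algebraMap_eq fun x => by
    rw [IsScalarTower.algebraMap_apply k R (Localization.AtPrime q),
      ← IsScalarTower.algebraMap_apply R (Localization.AtPrime q) K,
      ← IsScalarTower.algebraMap_apply k R K]
  ∃ ω' : Ω[Localization.AtPrime q⁄k], KaehlerDifferential.map k k (Localization.AtPrime q) K ω' = ω

section Reg

variable (q : Ideal R) [q.IsPrime]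

omit [CharZero k] [Algebra.FormallySmooth k R] [Algebra.EssFiniteType k R]

theorem Reg.add {ω₁ ω₂ : Ω[K⁄k]} (h₁ : Reg k (R := R) q ω₁) (h₂ : Reg k (R := R) q ω₂) :
    Reg k (R := R) q (ω₁ + ω₂) := by
  obtain ⟨a, ha⟩ := h₁
  obtain ⟨b, hb⟩ := h₂
  exact ⟨a + b, by rw [map_add, ha, hb]⟩

theorem Reg.zero : Reg k (R := R) q (0 : Ω[K⁄k]) := ⟨0, map_zero _⟩

theorem Reg.neg {ω₁ : Ω[K⁄k]} (h₁ : Reg k (R := R) q ω₁) : Reg k (R := R) q (-ω₁) := by
  obtain ⟨a, ha⟩ := h₁
  exact ⟨-a, by rw [map_neg, ha]⟩

theorem Reg.sub {ω₁ ω₂ : Ω[K⁄k]} (h₁ : Reg k (R := R) q ω₁) (h₂ : Reg k (R := R) q ω₂) :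
    Reg k (R := R) q (ω₁ - ω₂) := by
  rw [sub_eq_add_neg]
  exact Reg.add q h₁ (Reg.neg q h₂)

theorem Reg.sum {ι : Type*} (s : Finset ι) (ω : ι → Ω[K⁄k]) (h : ∀ i ∈ s, Reg k (R := R) q (ω i)) :
    Reg k (R := R) q (∑ i ∈ s, ω i) := by
  classical
  induction s using Finset.induction_on with
  | empty => simpa using Reg.zero q
  | insert i s hi ih =>
    rw [Finset.sum_insert hi]
    exact Reg.add q (h i (Finset.mem_insert_self _ _))
      (ih fun j hj => h j (Finset.mem_insert_of_mem hj))

theorem Reg.map (η : Ω[R⁄k]) : Reg k (R := R) q (KaehlerDifferential.map k k R K η) := by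
  letI := algLoc (K := K) q
  haveI := tower_algLoc (K := K) q
  haveI : IsScalarTower k (Localization.AtPrime q) K := IsScalarTower.of_algebraMap_eq fun x => by
    rw [IsScalarTower.algebraMap_apply k R (Localization.AtPrime q),
      ← IsScalarTower.algebraMap_apply R (Localization.AtPrime q) K,
      ← IsScalarTower.algebraMap_apply k R K]
  exact ⟨_, (map_comp_map (Localization.AtPrime q) η).symm⟩

/-- `c u⁻¹ du` is regular along `q` when `u` is prime to `q`. -/
theorem Reg.smul_dl (c u : R) (hu : u ∉ q) : Reg k (R := R) q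
    ((algebraMap R K c * (algebraMap R K u)⁻¹) • KaehlerDifferential.D k K (algebraMap R K u)) := by
  letI := algLoc (K := K) q
  haveI := tower_algLoc (K := K) q
  haveI : IsScalarTower k (Localization.AtPrime q) K := IsScalarTower.of_algebraMap_eq fun x => by
    rw [IsScalarTower.algebraMap_apply k R (Localization.AtPrime q),
      ← IsScalarTower.algebraMap_apply R (Localization.AtPrime q) K,
      ← IsScalarTower.algebraMap_apply k R K]
  obtain ⟨w, hw⟩ := (IsLocalization.map_units (Localization.AtPrime q)
    (⟨u, hu⟩ : q.primeCompl)).exists_left_inv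
  have hwK : algebraMap (Localization.AtPrime q) K w = (algebraMap R K u)⁻¹ := by
    have := congrArg (algebraMap (Localization.AtPrime q) K) hw
    rw [map_mul, map_one, ← IsScalarTower.algebraMap_apply] at this
    exact eq_inv_of_mul_eq_one_left this
  refine ⟨(algebraMap R (Localization.AtPrime q) c * w) •
    KaehlerDifferential.D k _ (algebraMap R (Localization.AtPrime q) u), ?_⟩
  rw [map_smul, KaehlerDifferential.map_D, ← IsScalarTower.algebraMap_apply, ← hwK,
    IsScalarTower.algebraMap_apply R (Localization.AtPrime q) K c, ← map_mul, algebraMap_smul]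

end Reg

/-- The logarithmic differential of a prime element is not regular. -/
theorem not_reg_nsmul_dl (q : R) (hq : Prime q) [(Ideal.span {q}).IsPrime] (m : ℕ) (hm : m ≠ 0) :
    ¬ Reg k (R := R) (Ideal.span {q}) (m • dl k (Additive.ofMul (un K q hq.ne_zero))) := by
  letI := algLoc (K := K) (Ideal.span {q})
  haveI := tower_algLoc (K := K) (Ideal.span {q})
  haveI : IsScalarTower k (Localization.AtPrime (Ideal.span {q})) K :=
    IsScalarTower.of_algebraMap_eq fun x => by
    rw [IsScalarTower.algebraMap_apply k R (Localization.AtPrime (Ideal.span {q})),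
      ← IsScalarTower.algebraMap_apply R (Localization.AtPrime (Ideal.span {q})) K,
      ← IsScalarTower.algebraMap_apply k R K]
  rintro ⟨ω, hω⟩
  let D := Localization.AtPrime (Ideal.span {q})
  have hinj : Function.Injective (algebraMap R D) :=
    IsLocalization.injective D (M := (Ideal.span {q}).primeCompl)
      (Ideal.primeCompl_le_nonZeroDivisors _)
  have hDdom : IsDomain D := IsLocalization.isDomain_localization
    (Ideal.primeCompl_le_nonZeroDivisors (Ideal.span {q}))
  haveI : IsFractionRing D K :=
    IsFractionRing.isFractionRing_of_isDomain_of_isLocalization (Ideal.span {q}).primeCompl D K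
  haveI : Algebra.EssFiniteType k D := Algebra.EssFiniteType.comp k R D
  haveI : Algebra.EssFiniteType k (IsLocalRing.ResidueField D) :=
    Algebra.EssFiniteType.comp k D (IsLocalRing.ResidueField D)
  have hmax : IsLocalRing.maximalIdeal D = Ideal.span {algebraMap R D q} := by
    rw [← Localization.AtPrime.map_eq_maximalIdeal, Ideal.map_span, Set.image_singleton]
  have hq0 : algebraMap R D q ≠ 0 := fun h => hq.ne_zero (hinj (by rw [h, map_zero]))
  have hqm : algebraMap R D q ∈ IsLocalRing.maximalIdeal D := by
    rw [hmax]; exact Ideal.mem_span_singleton_self _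
  have hq2 : algebraMap R D q ∉ IsLocalRing.maximalIdeal D ^ 2 := by
    rw [hmax, Ideal.span_singleton_pow, Ideal.mem_span_singleton]
    rintro ⟨r, hr⟩
    have : (1 : D) = algebraMap R D q * r := by
      apply mul_left_cancel₀ hq0
      rw [mul_one]
      calc algebraMap R D q = algebraMap R D q ^ 2 * r := hr
        _ = _ := by ring
    exact (IsLocalRing.mem_maximalIdeal _).mp hqm (IsUnit.of_mul_eq_one _ this.symm)
  refine false_of_map_eq (k := k) (D := D) (K := K) (algebraMap R D q) hqm hq0 hq2 m
    (Nat.cast_ne_zero.mpr hm) ω ?_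
  rw [hω, dl_apply, ← IsScalarTower.algebraMap_apply]
  rfl

theorem un_mul (a b : R) (ha : a ≠ 0) (hb : b ≠ 0) :
    un K (a * b) (mul_ne_zero ha hb) = un K a ha * un K b hb := by
  apply Units.ext
  simp [un]

theorem un_pow (a : R) (ha : a ≠ 0) (n : ℕ) :
    un K (a ^ n) (pow_ne_zero n ha) = un K a ha ^ n := by
  apply Units.ext
  simp [un]

omit [Algebra.FormallySmooth k R] [Algebra.EssFiniteType k R] [CharZero k] in
theorem reg_dl (q : Ideal R) [q.IsPrime] (u : R) (hu0 : u ≠ 0) (hu : u ∉ q) :
    Reg k (R := R) q (dl k (Additive.ofMul (un K u hu0))) := by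
  have := Reg.smul_dl (k := k) (K := K) q 1 u hu
  rw [map_one, one_mul] at this
  exact this

/-- If `dlog (a/b)` is regular along the prime `q` then `q` does not divide `a`. -/
theorem not_dvd_of_reg [UniqueFactorizationMonoid R] (q : R) (hq : Prime q)
    [(Ideal.span {q}).IsPrime] (a b : R) (ha : a ≠ 0) (hb : b ≠ 0) (hab : IsRelPrime a b)
    (h : Reg k (R := R) (Ideal.span {q})
      (dl k (Additive.ofMul (un K a ha)) - dl k (Additive.ofMul (un K b hb)))) : ¬ q ∣ a := by
  intro hqa
  have hqb : ¬ q ∣ b := fun hqb => hq.not_isUnit (hab hqa hqb)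
  obtain ⟨c, hc, hqc⟩ :=
    (FiniteMultiplicity.of_prime_left hq ha).exists_eq_pow_mul_and_not_dvd
  set m := multiplicity q a
  have hm : m ≠ 0 := by
    intro hm
    rw [hm, pow_zero, one_mul] at hc
    exact hqc (hc ▸ hqa)
  have hc0 : c ≠ 0 := by rintro rfl; exact ha (by rw [hc, mul_zero])
  have e : dl k (Additive.ofMul (un K a ha)) =
      m • dl k (Additive.ofMul (un K q hq.ne_zero)) + dl k (Additive.ofMul (un K c hc0)) := by
    have e1 : un K a ha = un K q hq.ne_zero ^ m * un K c hc0 := by
      apply Units.ext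
      simp only [un, Units.val_mk0, Units.val_mul, Units.val_pow_eq_pow_val]
      rw [← map_pow, ← map_mul, ← hc]
    rw [e1, ofMul_mul, ofMul_pow, map_add, map_nsmul]
  apply not_reg_nsmul_dl (k := k) (K := K) q hq m hm
  have e2 : m • dl k (Additive.ofMul (un K q hq.ne_zero)) =
      (dl k (Additive.ofMul (un K a ha)) - dl k (Additive.ofMul (un K b hb))) -
        dl k (Additive.ofMul (un K c hc0)) + dl k (Additive.ofMul (un K b hb)) := by
    rw [e]; abel
  rw [e2]
  refine Reg.add _ (Reg.sub _ h ?_) ?_
  · exact reg_dl _ c hc0 (fun h => hqc (Ideal.mem_span_singleton.mp h))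
  · exact reg_dl _ b hb (fun h => hqb (Ideal.mem_span_singleton.mp h))

/-- An element all of whose prime factors are associated to one of the `f i`. -/
theorem exists_eq_prod {r : ℕ} [UniqueFactorizationMonoid R] (f : Fin r → R)
    (hf : ∀ i, Prime (f i)) (a : R) :
    a ≠ 0 → (∀ q, Prime q → q ∣ a → ∃ i, Associated q (f i)) →
    ∃ (v : Rˣ) (e : Fin r → ℕ), a = v * ∏ i, f i ^ e i := by
  classical
  induction a using UniqueFactorizationMonoid.induction_on_prime with
  | h₁ => intro h; exact absurd rfl h
  | h₂ x hx =>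
    intro _ _
    obtain ⟨u, rfl⟩ := hx
    exact ⟨u, 0, by simp⟩
  | h₃ a p ha hp ih =>
    intro _ h
    obtain ⟨v, e, he⟩ := ih ha (fun q hq hqa => h q hq (hqa.mul_left p))
    obtain ⟨i, u, hu⟩ := h p hp (dvd_mul_right p a)
    refine ⟨v * u⁻¹, e + (Pi.single i 1 : Fin r → ℕ), ?_⟩
    have e1 : ∏ j, f j ^ (e + (Pi.single i 1 : Fin r → ℕ)) j = (∏ j, f j ^ e j) * f i := by
      rw [show (fun j => f j ^ (e + (Pi.single i 1 : Fin r → ℕ)) j) = fun j =>
        f j ^ e j * f j ^ (Pi.single i 1 : Fin r → ℕ) j from funext fun j => by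
          rw [Pi.add_apply, pow_add], Finset.prod_mul_distrib]
      congr 1
      rw [Finset.prod_eq_single i]
      · simp
      · intro j _ hj
        simp [Pi.single_eq_of_ne hj]
      · intro hi; exact absurd (Finset.mem_univ i) hi
    have e2 : p = f i * ((u⁻¹ : Rˣ) : R) := by
      rw [← hu, mul_assoc, Units.mul_inv, mul_one]
    rw [e1, Units.val_mul]
    calc p * a = (f i * ((u⁻¹ : Rˣ) : R)) * (v * ∏ j, f j ^ e j) := by rw [← e2, ← he]
      _ = _ := by ring

/-- A rational function with logarithmic differential having at most logarithmic poles along the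
primes `f i` has a logarithmic differential of the expected form. -/
theorem main [UniqueFactorizationMonoid R] {r : ℕ} (f : Fin r → R) (hf : ∀ i, Prime (f i))
    (g : Kˣ) (η : Ω[R⁄k]) (c : Fin r → R)
    (h : (g : K)⁻¹ • KaehlerDifferential.D k K (g : K) =
      KaehlerDifferential.map k k R K η +
        ∑ i, (algebraMap R K (c i) * (algebraMap R K (f i))⁻¹) •
          KaehlerDifferential.D k K (algebraMap R K (f i))) :
    ∃ (v : Rˣ) (b : Fin r → ℤ),
      (g : K)⁻¹ • KaehlerDifferential.D k K (g : K) =
        (algebraMap R K (v : R))⁻¹ • KaehlerDifferential.D k K (algebraMap R K (v : R)) +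
          ∑ i, ((b i : K) * (algebraMap R K (f i))⁻¹) •
            KaehlerDifferential.D k K (algebraMap R K (f i)) := by
  obtain ⟨a, b, hab, hg⟩ := IsFractionRing.exists_reduced_fraction (A := R) (g : K)
  have hb0 : (b : R) ≠ 0 := nonZeroDivisors.ne_zero b.2
  have ha0 : a ≠ 0 := by
    rintro rfl
    rw [IsLocalization.mk'_zero] at hg
    exact g.ne_zero hg.symm
  have hgu : g = un K a ha0 * (un K (b : R) hb0)⁻¹ := by
    apply Units.ext
    rw [← hg, IsFractionRing.mk'_eq_div, Units.val_mul, Units.val_inv_eq_inv_val]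
    simp [un, div_eq_mul_inv]
  have hdl : dl k (Additive.ofMul g) = dl k (Additive.ofMul (un K a ha0)) -
      dl k (Additive.ofMul (un K (b : R) hb0)) := by
    rw [hgu, ofMul_mul, ofMul_inv, map_add, map_neg, sub_eq_add_neg]
  -- regularity along every other prime
  have hreg : ∀ (q : R) (hq : Prime q) [(Ideal.span {q}).IsPrime], (∀ i, ¬ Associated q (f i)) →
      Reg k (R := R) (Ideal.span {q}) (dl k (Additive.ofMul g)) := by
    intro q hq _ hqf
    rw [dl_apply, h]
    refine Reg.add _ (Reg.map _ η) (Reg.sum _ _ _ fun i _ => Reg.smul_dl _ _ _ fun hmem => ?_)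
    exact hqf i (hq.associated_of_dvd (hf i) (Ideal.mem_span_singleton.mp hmem))
  have key1 : ∀ q, Prime q → q ∣ a → ∃ i, Associated q (f i) := by
    intro q hq hqa
    by_contra hcon
    push Not at hcon
    haveI : (Ideal.span {q}).IsPrime := (Ideal.span_singleton_prime hq.ne_zero).mpr hq
    have := hreg q hq hcon
    rw [hdl] at this
    exact not_dvd_of_reg (k := k) (K := K) q hq a b ha0 hb0 hab this hqa
  have key2 : ∀ q, Prime q → q ∣ (b : R) → ∃ i, Associated q (f i) := by
    intro q hq hqa
    by_contra hcon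
    push Not at hcon
    haveI : (Ideal.span {q}).IsPrime := (Ideal.span_singleton_prime hq.ne_zero).mpr hq
    have := Reg.neg _ (hreg q hq hcon)
    rw [hdl, neg_sub] at this
    exact not_dvd_of_reg (k := k) (K := K) q hq b a hb0 ha0 hab.symm this hqa
  obtain ⟨v, e, he⟩ := exists_eq_prod f hf a ha0 key1
  obtain ⟨v', e', he'⟩ := exists_eq_prod f hf b hb0 key2
  have hprod : ∀ (a : R) (ha0 : a ≠ 0) (v : Rˣ) (e : Fin r → ℕ), a = v * ∏ i, f i ^ e i →
      un K a ha0 = Units.map (algebraMap R K).toMonoidHom v *
        ∏ i, un K (f i) (hf i).ne_zero ^ e i := by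
    intro a ha0 v e he
    apply Units.ext
    rw [Units.val_mul, Units.coe_prod]
    simp only [un, Units.val_mk0, Units.val_pow_eq_pow_val]
    rw [he, map_mul, map_prod]
    simp
  have hg' : g = Units.map (algebraMap R K).toMonoidHom (v * v'⁻¹) *
      ∏ i, un K (f i) (hf i).ne_zero ^ ((e i : ℤ) - e' i) := by
    rw [hgu, hprod a ha0 v e he, hprod b hb0 v' e' he', map_mul, map_inv]
    simp only [zpow_sub, zpow_natCast, Finset.prod_mul_distrib, Finset.prod_inv_distrib]
    rw [mul_inv]
    exact mul_mul_mul_comm _ _ _ _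
  refine ⟨v * v'⁻¹, fun i => (e i : ℤ) - e' i, ?_⟩
  rw [← dl_apply]
  conv_lhs => rw [hg']
  rw [ofMul_mul, map_add, ofMul_prod, map_sum, dl_apply]
  congr 1
  refine Finset.sum_congr rfl fun i _ => ?_
  rw [ofMul_zpow, map_zsmul, dl_apply, mul_smul, Int.cast_smul_eq_zsmul]
  rfl

end K959.LogMain
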