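import Mathlib.RingTheory.Smooth.Field
import Mathlib.RingTheory.Smooth.Kaehler
import Mathlib.RingTheory.Etale.Kaehler
import Mathlib.RingTheory.Localization.FractionRing
import Mathlib.RingTheory.LocalRing.ResidueField.Basic
import Mathlib.RingTheory.Flat.TorsionFree
import Mathlib.FieldTheory.Perfect

/-!
The residue argument: over a field of characteristic zero `q⁻¹ dq` is not regular along `q = 0`.
-/

set_option autoImplicit false
universe u v
open KaehlerDifferential TensorProduct

namespace K959.Residue

section Local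

variable {k D K : Type u} [Field k] [CommRing D] [IsDomain D] [IsLocalRing D] [Algebra k D]
  [Field K] [Algebra D K] [IsFractionRing D K] [Algebra k K] [IsScalarTower k D K]

/-- Differentials of a formally smooth domain inject into those of the fraction field. -/
theorem map_injective [Algebra.FormallySmooth k D] :
    Function.Injective (KaehlerDifferential.map k k D K) := by
  have hproj : Module.Projective D Ω[D⁄k] := Algebra.FormallySmooth.projective_kaehlerDifferential
  have hflat : Module.Flat D Ω[D⁄k] := inferInstance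
  have hloc := KaehlerDifferential.isLocalizedModule_map k D K (nonZeroDivisors D)
  rw [injective_iff_map_eq_zero]
  intro x hx
  obtain ⟨c, hc⟩ := (IsLocalizedModule.eq_zero_iff (nonZeroDivisors D)
    (KaehlerDifferential.map k k D K)).mp hx
  have htf : Module.IsTorsionFree D Ω[D⁄k] := inferInstance
  have hc' : (c : D) • x = 0 := hc
  exact (smul_eq_zero.mp hc').resolve_left (nonZeroDivisors.ne_zero c.2)

/-- `m q⁻¹ dq` is not the image of a differential. -/
theorem false_of_map_eq [Algebra.FormallySmooth k D]
    [Algebra.FormallySmooth k (IsLocalRing.ResidueField D)] (q : D)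
    (hq : q ∈ IsLocalRing.maximalIdeal D) (hq0 : q ≠ 0) (hq2 : q ∉ IsLocalRing.maximalIdeal D ^ 2)
    (m : ℕ) (hm : (m : k) ≠ 0) (ω : Ω[D⁄k])
    (h : KaehlerDifferential.map k k D K ω =
      m • ((algebraMap D K q)⁻¹ • KaehlerDifferential.D k K (algebraMap D K q))) : False := by
  have hqK : algebraMap D K q ≠ 0 := fun h' => hq0 (IsFractionRing.injective D K (by
    rw [h', map_zero]))
  have h1 : q • ω = m • KaehlerDifferential.D k D q := by
    apply map_injective (K := K)
    rw [map_smul, h, map_nsmul, KaehlerDifferential.map_D, ← algebraMap_smul K q,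
      smul_comm (algebraMap D K q) m, smul_smul, mul_inv_cancel₀ hqK, one_smul]
  let κ := IsLocalRing.ResidueField D
  have h2 : (1 : κ) ⊗ₜ[D] (m • KaehlerDifferential.D k D q) = 0 := by
    rw [← h1, TensorProduct.tmul_smul, TensorProduct.smul_tmul', ← Algebra.algebraMap_eq_smul_one,
      IsLocalRing.ResidueField.algebraMap_eq, (IsLocalRing.residue_eq_zero_iff q).mpr hq,
      TensorProduct.zero_tmul]
  have h3 : (1 : κ) ⊗ₜ[D] (KaehlerDifferential.D k D q) = 0 := by
    have e : (m : k) • ((1 : κ) ⊗ₜ[D] (KaehlerDifferential.D k D q)) = 0 := by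
      rw [Nat.cast_smul_eq_nsmul]
      exact (map_nsmul (TensorProduct.mk D κ Ω[D⁄k] 1) m (KaehlerDifferential.D k D q)).symm.trans h2
    exact (smul_eq_zero.mp e).resolve_left hm
  obtain ⟨l, hl⟩ := (Algebra.FormallySmooth.iff_split_injection (R := k) (P := D) (A := κ)
    (IsLocalRing.residue_surjective)).mp inferInstance
  have hker : q ∈ RingHom.ker (algebraMap D κ) := by
    rw [RingHom.mem_ker]
    exact (IsLocalRing.residue_eq_zero_iff q).mpr hq
  have h4 : (Ideal.toCotangent _ (⟨q, hker⟩ : RingHom.ker (algebraMap D κ))) = 0 := by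
    have e := LinearMap.congr_fun hl (Ideal.toCotangent _ (⟨q, hker⟩ : RingHom.ker (algebraMap D κ)))
    rw [LinearMap.comp_apply, KaehlerDifferential.kerCotangentToTensor_toCotangent,
      LinearMap.id_apply] at e
    rw [← e]
    change l ((1 : κ) ⊗ₜ[D] (KaehlerDifferential.D k D q)) = 0
    rw [h3, map_zero]
  rw [Ideal.toCotangent_eq_zero] at h4
  apply hq2
  have hk : RingHom.ker (algebraMap D κ) = IsLocalRing.maximalIdeal D := IsLocalRing.ker_residue
  rw [← hk]
  exact h4

end Local

section Dlog

variable (k : Type u) {K : Type u} [Field k] [Field K] [Algebra k K]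

/-- The logarithmic differential. -/
noncomputable def dl : Additive Kˣ →+ Ω[K⁄k] where
  toFun x := ((x.toMul : Kˣ) : K)⁻¹ • KaehlerDifferential.D k K ((x.toMul : Kˣ) : K)
  map_zero' := by simp
  map_add' x y := by
    have hx : ((x.toMul : Kˣ) : K) ≠ 0 := (x.toMul).ne_zero
    have hy : ((y.toMul : Kˣ) : K) ≠ 0 := (y.toMul).ne_zero
    rw [toMul_add, Units.val_mul, Derivation.leibniz, smul_add, smul_smul, smul_smul, add_comm]
    congr 2
    · field_simp
    · field_simp

theorem dl_apply (x : Kˣ) : dl k (Additive.ofMul x) = (x : K)⁻¹ • KaehlerDifferential.D k K (x : K) :=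
  rfl

end Dlog

end K959.Residue
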