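import Mathlib.RingTheory.Localization.FractionRing
import Mathlib.RingTheory.Prime
import Mathlib.Tactic.FieldSimp
import Mathlib.Tactic.Choose
import Mathlib.Tactic.Linarith
import Mathlib.Algebra.BigOperators.Associated
import Mathlib.Algebra.BigOperators.Ring.Finset
import Mathlib.Algebra.BigOperators.Field
import Mathlib.Algebra.Order.BigOperators.Group.Finset
import Mathlib.Algebra.Order.Ring.Int

/-!
Units of the complement of a product of pairwise non-associate primes in a domain.
-/

set_option autoImplicit false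
universe u v

namespace K959.Units

variable {R : Type u} [CommRing R] [IsDomain R] {r : ℕ} (f : Fin r → R)

/-- A divisor of a product of primes is, up to a unit, a product of some of them. -/
theorem exists_unit_mul_prod (hf : ∀ i, Prime (f i)) {a a' : R} {n : ℕ}
    (h : a * a' = (∏ i, f i) ^ n) : ∃ (v : Rˣ) (e : Fin r → ℕ), a = v * ∏ i, f i ^ e i := by
  classical
  have h' : a * a' = 1 * ∏ x ∈ (Finset.univ : Finset (Fin r × Fin n)), f x.1 := by
    rw [one_mul, h, ← Finset.univ_product_univ, Finset.prod_product]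
    simp [Finset.prod_pow]
  obtain ⟨t, u, b, c, -, -, hbc, ha, -⟩ := mul_eq_mul_prime_prod (fun x _ => hf x.1) h'
  refine ⟨⟨b, c, hbc.symm, by rw [mul_comm]; exact hbc.symm⟩,
    fun i => (t.filter (fun x => x.1 = i)).card, ?_⟩
  rw [ha]
  congr 1
  rw [← Finset.prod_fiberwise t (fun x => x.1)]
  refine Finset.prod_congr rfl fun i _ => ?_
  rw [Finset.prod_congr rfl (g := fun _ => f i) (fun x hx => by
    rw [(Finset.mem_filter.mp hx).2]), Finset.prod_const]

/-- The exponents of a product of pairwise non-associate primes and a unit are unique. -/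
theorem exponent_le (hf : ∀ i, Prime (f i)) (hfa : ∀ i j, Associated (f i) (f j) → i = j)
    {v v' : Rˣ} {m m' : Fin r → ℕ}
    (h : (v : R) * ∏ i, f i ^ m i = v' * ∏ i, f i ^ m' i) (j : Fin r) : m j ≤ m' j := by
  classical
  by_contra hlt
  push Not at hlt
  have e1 := Finset.mul_prod_erase Finset.univ (fun i => f i ^ m i) (Finset.mem_univ j)
  have e2 := Finset.mul_prod_erase Finset.univ (fun i => f i ^ m' i) (Finset.mem_univ j)
  rw [← e1, ← e2] at h
  obtain ⟨d, hd⟩ : ∃ d, m j = m' j + (d + 1) := ⟨m j - m' j - 1, by omega⟩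
  have hne : f j ^ m' j ≠ 0 := pow_ne_zero _ (hf j).ne_zero
  have h2 : f j * ((v : R) * f j ^ d * ∏ i ∈ Finset.univ.erase j, f i ^ m i) =
      v' * ∏ i ∈ Finset.univ.erase j, f i ^ m' i := by
    apply mul_left_cancel₀ hne
    calc _ = (v : R) * (f j ^ m j * ∏ i ∈ Finset.univ.erase j, f i ^ m i) := by
          rw [hd]; ring
      _ = _ := by rw [h]; ring
  have hdvd : f j ∣ v' * ∏ i ∈ Finset.univ.erase j, f i ^ m' i := ⟨_, h2.symm⟩
  rcases (hf j).dvd_or_dvd hdvd with h3 | h3
  · exact (hf j).not_isUnit (isUnit_of_dvd_unit h3 v'.isUnit)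
  · obtain ⟨i, hi, h4⟩ := (hf j).exists_mem_finset_dvd h3
    have h5 : f j ∣ f i := (hf j).dvd_of_dvd_pow h4
    exact (Finset.mem_erase.mp hi).1 (hfa j i ((hf j).associated_of_dvd (hf i) h5)).symm

variable {K : Type v} [Field K] [Algebra R K] [IsFractionRing R K]

theorem existsUnique_unit_zpow (hf : ∀ i, Prime (f i))
    (hfa : ∀ i j, Associated (f i) (f j) → i = j) (w : Kˣ)
    (hw : ∃ (a : R) (n : ℕ), (w : K) * algebraMap R K ((∏ i, f i) ^ n) = algebraMap R K a)
    (hw' : ∃ (a : R) (n : ℕ), (w⁻¹ : Kˣ) * algebraMap R K ((∏ i, f i) ^ n) = algebraMap R K a) :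
    ∃! vb : Rˣ × (Fin r → ℤ),
      (w : K) = algebraMap R K (vb.1 : R) * ∏ i, (algebraMap R K (f i)) ^ (vb.2 i) := by
  have hinj : Function.Injective (algebraMap R K) := IsFractionRing.injective R K
  have hne : ∀ i, algebraMap R K (f i) ≠ 0 := fun i h =>
    (hf i).ne_zero (hinj (by rw [h, map_zero]))
  have hF : algebraMap R K (∏ i, f i) ≠ 0 := by
    rw [map_prod]; exact Finset.prod_ne_zero_iff.mpr fun i _ => hne i
  obtain ⟨a, n, ha⟩ := hw
  obtain ⟨a', n', ha'⟩ := hw'
  have hmul : a * a' = (∏ i, f i) ^ (n + n') := by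
    apply hinj
    rw [map_mul, ← ha, ← ha', pow_add, map_mul]
    calc _ = ((w : K) * ((w⁻¹ : Kˣ) : K)) * (algebraMap R K ((∏ i, f i) ^ n) *
          algebraMap R K ((∏ i, f i) ^ n')) := by ring
      _ = _ := by rw [Units.mul_inv, one_mul]
  obtain ⟨v, e, hv⟩ := exists_unit_mul_prod f hf hmul
  refine ⟨(v, fun i => (e i : ℤ) - n), ?_, ?_⟩
  · have hFn : algebraMap R K ((∏ i, f i) ^ n) ≠ 0 := by
      rw [map_pow]; exact pow_ne_zero _ hF
    apply mul_right_cancel₀ hFn
    rw [ha, hv, map_mul, map_prod, mul_assoc]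
    congr 1
    rw [map_pow, map_prod, ← Finset.prod_pow, ← Finset.prod_mul_distrib]
    refine Finset.prod_congr rfl fun i _ => ?_
    rw [map_pow]
    dsimp only
    rw [zpow_sub₀ (hne i), zpow_natCast, zpow_natCast, div_mul_cancel₀ _ (pow_ne_zero _ (hne i))]
  · rintro ⟨v', b⟩ hb
    dsimp only at hb
    -- clear denominators
    obtain ⟨N, hN⟩ : ∃ N : ℕ, n ≤ N ∧ ∀ i, 0 ≤ b i + N := by
      refine ⟨n + ∑ i, (b i).natAbs, Nat.le_add_right _ _, fun i => ?_⟩
      have : (b i).natAbs ≤ ∑ i, (b i).natAbs :=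
        Finset.single_le_sum (f := fun i => (b i).natAbs) (fun _ _ => Nat.zero_le _)
          (Finset.mem_univ i)
      omega
    obtain ⟨hnN, hN⟩ := hN
    choose c hc using fun i => Int.eq_ofNat_of_zero_le (hN i)
    obtain ⟨d, hd⟩ := Nat.exists_eq_add_of_le hnN
    have h1 : (v : R) * ∏ i, f i ^ (e i + d) = v' * ∏ i, f i ^ c i := by
      apply hinj
      have hFd : algebraMap R K ((∏ i, f i) ^ N) = ∏ i, algebraMap R K (f i) ^ N := by
        rw [map_pow, map_prod, Finset.prod_pow]
      calc algebraMap R K ((v : R) * ∏ i, f i ^ (e i + d))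
          = algebraMap R K (a * (∏ i, f i) ^ d) := by
            rw [hv]
            congr 1
            rw [mul_assoc]
            congr 1
            rw [← Finset.prod_pow, ← Finset.prod_mul_distrib]
            exact Finset.prod_congr rfl fun i _ => pow_add _ _ _
        _ = (w : K) * algebraMap R K ((∏ i, f i) ^ N) := by
            rw [map_mul, ← ha, hd, pow_add, map_mul, mul_assoc]
        _ = _ := by
            rw [hb, hFd, map_mul, map_prod, mul_assoc, ← Finset.prod_mul_distrib]
            congr 1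
            refine Finset.prod_congr rfl fun i _ => ?_
            rw [map_pow, ← zpow_natCast, ← zpow_natCast, ← zpow_add₀ (hne i), hc i]
    have hle := exponent_le f hf hfa h1
    have hge := exponent_le f hf hfa h1.symm
    have heq : ∀ i, e i + d = c i := fun i => le_antisymm (hle i) (hge i)
    have hvv : (v : R) = v' := by
      have h3 : ∏ i, f i ^ (e i + d) = ∏ i, f i ^ c i :=
        Finset.prod_congr rfl fun i _ => by rw [heq i]
      rw [h3] at h1
      exact mul_right_cancel₀ (Finset.prod_ne_zero_iff.mpr fun i _ =>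
        pow_ne_zero _ (hf i).ne_zero) h1
    refine Prod.ext (Units.ext hvv.symm) ?_
    funext i
    dsimp only
    have h4 := hc i
    have h5 : (c i : ℤ) = e i + d := by exact_mod_cast (heq i).symm
    have h6 : (N : ℤ) = n + d := by exact_mod_cast hd
    have h7 : b i + (N : ℤ) = (c i : ℤ) := h4
    linarith

end K959.Units
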